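import Cfsg.Agent.H978.Exo.Lift
import Cfsg.Agent.NotCT.Orders

/-!
# Double inversions in the Fischer groups, `p = 3` (helper978, for S5268)
-/

set_option autoImplicit false

namespace Cfsg.Agent.H978.Exo.Fi

open Cfsg Cfsg.Spor Cfsg.Agent.H789.Exo

universe u

section

variable {α : Type} [DecidableEq α] {edges : List (α × ℕ × α)} {extra : List (FreeGroup α)}

theorem cox_pow {x y : α} (hx : x ∈ coxNodes edges) (hy : y ∈ coxNodes edges) (m : ℕ) (hn : coxLabel edges x y = m) :
    ((PresentedGroup.of x : CoxPresented α edges extra) * PresentedGroup.of y) ^ m = 1 := by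
  have h : (FreeGroup.of x * FreeGroup.of y) ^ coxLabel edges x y ∈
      (coxRelators edges ∪ {r | r ∈ extra} : Set (FreeGroup α)) := Or.inl ⟨x, hx, y, hy, rfl⟩
  rw [hn] at h
  exact PresentedGroup.one_of_mem h

theorem sq {x : α} (hx : x ∈ coxNodes edges) :
    (PresentedGroup.of x : CoxPresented α edges extra) * PresentedGroup.of x = 1 := by
  have := cox_pow (extra := extra) hx hx 1 (by rw [coxLabel, if_pos rfl])
  rwa [pow_one] at this

theorem comm {x y : α} (hx : x ∈ coxNodes edges) (hy : y ∈ coxNodes edges) (hn : coxLabel edges x y = 2) :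
    (PresentedGroup.of x : CoxPresented α edges extra) * PresentedGroup.of y =
      PresentedGroup.of y * PresentedGroup.of x := by
  have h1 := cox_pow (extra := extra) hx hy 2 hn
  have h2 := sq (extra := extra) hx
  have h3 := sq (extra := extra) hy
  set a := (PresentedGroup.of x : CoxPresented α edges extra)
  set b := (PresentedGroup.of y : CoxPresented α edges extra)
  have e1 : a⁻¹ = a := inv_eq_of_mul_eq_one_left h2
  have e2 : b⁻¹ = b := inv_eq_of_mul_eq_one_left h3
  rw [pow_two] at h1
  calc a * b = (a * b)⁻¹ := eq_inv_of_mul_eq_one_left h1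
    _ = b * a := by rw [mul_inv_rev, e1, e2]

theorem step {x y z : α} (hx : x ∈ coxNodes edges) (hy : y ∈ coxNodes edges) (hz : z ∈ coxNodes edges)
    (hxz : coxLabel edges x z = 2) (hyz : coxLabel edges y z = 3)
    (h : (PresentedGroup.of x : CoxPresented α edges extra) = PresentedGroup.of y) :
    (PresentedGroup.of y : CoxPresented α edges extra) = PresentedGroup.of z := by
  have h1 := cox_pow (extra := extra) hx hz 2 hxz
  have h2 := cox_pow (extra := extra) hy hz 3 hyz
  rw [h] at h1
  rw [pow_succ, h1, one_mul] at h2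
  rw [eq_inv_of_mul_eq_one_left h2]
  exact inv_eq_of_mul_eq_one_left (sq hz)

/-- all generators equal -/
theorem eq_or (u : CoxPresented α edges extra) (hu : u * u = 1) (h : ∀ x : α, (PresentedGroup.of x : CoxPresented α edges extra) = u)
    (g : CoxPresented α edges extra) : g = 1 ∨ g = u := by
  have h1 : g ∈ Subgroup.closure (Set.range (PresentedGroup.of : α → CoxPresented α edges extra)) := by
    rw [PresentedGroup.closure_range_of]
    exact Subgroup.mem_top _
  refine Subgroup.closure_induction (p := fun g _ => g = 1 ∨ g = u) ?_ (Or.inl rfl) ?_ ?_ h1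
  · rintro _ ⟨x, rfl⟩
    exact Or.inr (h x)
  · rintro a b _ _ (rfl | rfl) (rfl | rfl)
    · exact Or.inl (one_mul _)
    · exact Or.inr (one_mul _)
    · exact Or.inr (mul_one _)
    · exact Or.inl hu
  · rintro a _ (rfl | rfl)
    · exact Or.inl inv_one
    · exact Or.inr (inv_eq_of_mul_eq_one_left hu)

theorem card_le (u : CoxPresented α edges extra) (hu : u * u = 1) (h : ∀ x : α, (PresentedGroup.of x : CoxPresented α edges extra) = u) :
    Nat.card (CoxPresented α edges extra) ≤ 2 := by
  have h1 : Function.Surjective (fun b : Bool => cond b (1 : CoxPresented α edges extra) u) := by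
    intro g
    rcases eq_or u hu h g with rfl | rfl
    · exact ⟨true, rfl⟩
    · exact ⟨false, rfl⟩
  have h2 := Nat.card_le_card_of_surjective _ h1
  simpa using h2

theorem all_comm (u : CoxPresented α edges extra) (hu : u * u = 1) (h : ∀ x : α, (PresentedGroup.of x : CoxPresented α edges extra) = u)
    (a b : CoxPresented α edges extra) : a * b = b * a := by
  rcases eq_or u hu h a with rfl | rfl <;> rcases eq_or _ hu h b with rfl | rfl <;> simp

end

/-! ### the double inversion -/

section

variable {G : Type u} [Group G] {a b f g s t : G}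

theorem dinv_of (ha : a * a = 1) (hb : b * b = 1) (hf : f * f = 1) (hg : g * g = 1)
    (af : a * f = f * a) (ag : a * g = g * a) (bf : b * f = f * b)
    (bg : b * g = g * b) (i : G) (ia : i * a = a * i) (ib : i * b = b * i) (jf : i * f = f * i) (ig : i * g = g * i) :
    a * b * (f * g) = f * g * (a * b) ∧ (a * i) * (a * b) * (a * i)⁻¹ = (a * b)⁻¹ ∧
      (a * i) * (f * g) = (f * g) * (a * i) ∧ (f * i) * (a * b) = (a * b) * (f * i) ∧
      (f * i) * (f * g) * (f * i)⁻¹ = (f * g)⁻¹ := by
  have e1 : a⁻¹ = a := inv_eq_of_mul_eq_one_left ha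
  have e2 : b⁻¹ = b := inv_eq_of_mul_eq_one_left hb
  have e3 : f⁻¹ = f := inv_eq_of_mul_eq_one_left hf
  have e4 : g⁻¹ = g := inv_eq_of_mul_eq_one_left hg
  have c1 : Commute a f := af
  have c2 : Commute a g := ag
  have c3 : Commute b f := bf
  have c4 : Commute b g := bg
  have c5 : Commute i a := ia
  have c6 : Commute i b := ib
  have c7 : Commute i f := jf
  have c8 : Commute i g := ig
  refine ⟨((c1.mul_right c2).mul_left (c3.mul_right c4)).eq, ?_, ((c1.mul_right c2).mul_left (c7.mul_right c8)).eq,
    ((c1.symm.mul_right c3.symm).mul_left (c5.mul_right c6)).eq, ?_⟩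
  · have h3 : i * (a * b) = a * b * i := (c5.mul_right c6).eq
    rw [mul_inv_eq_iff_eq_mul, mul_assoc, h3, mul_inv_rev, e1, e2]
    calc a * (a * b * i) = (a * a) * b * i := by group
      _ = b * (a * a) * i := by rw [ha, one_mul, mul_one]
      _ = _ := by group
  · have h3 : i * (f * g) = f * g * i := (c7.mul_right c8).eq
    rw [mul_inv_eq_iff_eq_mul, mul_assoc, h3, mul_inv_rev, e3, e4]
    calc f * (f * g * i) = (f * f) * g * i := by group
      _ = g * (f * f) * i := by rw [hf, one_mul, mul_one]
      _ = _ := by group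

end

theorem mul_ne_one' {G : Type u} [Group G] {a b : G} (hb : b * b = 1) (h : a ≠ b) : a * b ≠ 1 := by
  intro h1
  apply h
  rw [eq_inv_of_mul_eq_one_left h1]
  exact inv_eq_of_mul_eq_one_left hb

/-! ### `Fi22` -/

section Fi22

open Spor.Fi22

theorem fi22_step {x y z : Gen} (hxz : coxLabel edges x z = 2) (hyz : coxLabel edges y z = 3)
    (h : (PresentedGroup.of x : Spor.Fi22) = PresentedGroup.of y) : (PresentedGroup.of y : Spor.Fi22) = PresentedGroup.of z :=
  step (by cases x <;> decide) (by cases y <;> decide) (by cases z <;> decide) hxz hyz h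

theorem fi22_false (u : Spor.Fi22) (hu : u * u = 1) (h : ∀ x : Gen, (PresentedGroup.of x : Spor.Fi22) = u) : False := by
  have h1 := card_le u hu h
  have h2 : Nat.card Spor.Fi22 = 64561751654400 := NotCT.Orders.fi22 ⟨MulEquiv.refl _⟩
  rw [h2] at h1
  norm_num at h1

theorem fi22_ab : (PresentedGroup.of .a : Spor.Fi22) ≠ PresentedGroup.of .b := by
  intro h
  have hbc := fi22_step (z := .c) (by decide) (by decide) h
  have hcd := fi22_step (z := .d) (by decide) (by decide) hbc
  have hde := fi22_step (z := .e) (by decide) (by decide) hcd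
  have hdh := fi22_step (z := .h) (by decide) (by decide) hcd
  have hef := fi22_step (z := .f) (by decide) (by decide) hde
  have hfg := fi22_step (z := .g) (by decide) (by decide) hef
  have hhi := fi22_step (z := .i) (by decide) (by decide) hdh
  refine fi22_false (PresentedGroup.of .a) (sq (by decide)) ?_
  intro x
  cases x
  · rfl
  · exact h.symm
  · rw [h, hbc]
  · rw [h, hbc, hcd]
  · rw [h, hbc, hcd, hde]
  · rw [h, hbc, hcd, hde, hef]
  · rw [h, hbc, hcd, hde, hef, hfg]
  · rw [h, hbc, hcd, hdh]
  · rw [h, hbc, hcd, hdh, hhi]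

theorem fi22_fg : (PresentedGroup.of .f : Spor.Fi22) ≠ PresentedGroup.of .g := by
  intro h
  have hfe := fi22_step (z := .e) (by decide) (by decide) h.symm
  have hed := fi22_step (z := .d) (by decide) (by decide) hfe
  have hdc := fi22_step (z := .c) (by decide) (by decide) hed
  have hcb := fi22_step (z := .b) (by decide) (by decide) hdc
  have hba := fi22_step (z := .a) (by decide) (by decide) hcb
  have hdh := fi22_step (z := .h) (by decide) (by decide) hed
  have hhi := fi22_step (z := .i) (by decide) (by decide) hdh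
  refine fi22_false (PresentedGroup.of .g) (sq (by decide)) ?_
  intro x
  have h0 := h.symm
  cases x
  · rw [h0, hfe, hed, hdc, hcb, hba]
  · rw [h0, hfe, hed, hdc, hcb]
  · rw [h0, hfe, hed, hdc]
  · rw [h0, hfe, hed]
  · rw [h0, hfe]
  · exact h
  · rfl
  · rw [h0, hfe, hed, hdh]
  · rw [h0, hfe, hed, hdh, hhi]

theorem dinv_fi22 : DoubleInv 3 Spor.Fi22 := by
  have hn : ∀ x : Gen, x ∈ coxNodes edges := by intro x; cases x <;> decide
  have h3 : ∀ x y : Gen, coxLabel edges x y = 3 → ((PresentedGroup.of x : Spor.Fi22) * PresentedGroup.of y) ^ 3 = 1 :=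
    fun x y h => cox_pow (hn x) (hn y) 3 h
  obtain ⟨e1, e2, e3, e4, e5⟩ := dinv_of (G := Spor.Fi22) (a := PresentedGroup.of .a) (b := PresentedGroup.of .b)
    (f := PresentedGroup.of .f) (g := PresentedGroup.of .g) (sq (hn _)) (sq (hn _)) (sq (hn _)) (sq (hn _))
    (comm (hn _) (hn _) (by decide)) (comm (hn _) (hn _) (by decide)) (comm (hn _) (hn _) (by decide))
    (comm (hn _) (hn _) (by decide)) 1 (by simp) (by simp) (by simp) (by simp)
  exact ⟨_, _, _, _, mul_ne_one' (sq (hn _)) fi22_ab, mul_ne_one' (sq (hn _)) fi22_fg,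
    ⟨1, by rw [pow_one]; exact h3 _ _ (by decide)⟩, ⟨1, by rw [pow_one]; exact h3 _ _ (by decide)⟩, e1, e2, e3, e4, e5⟩

end Fi22

/-! ### `Fi23` -/

section Fi23

open Spor.Fi23

theorem fi23_step {x y z : Gen} (hxz : coxLabel edges x z = 2) (hyz : coxLabel edges y z = 3)
    (h : (PresentedGroup.of x : Spor.Fi23) = PresentedGroup.of y) : (PresentedGroup.of y : Spor.Fi23) = PresentedGroup.of z :=
  step (by cases x <;> decide) (by cases y <;> decide) (by cases z <;> decide) hxz hyz h

theorem fi23_false (u : Spor.Fi23) (hu : u * u = 1) (h : ∀ x : Gen, (PresentedGroup.of x : Spor.Fi23) = u) : False := by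
  have h1 := card_le u hu h
  have h2 : Nat.card Spor.Fi23 = 4089470473293004800 := NotCT.Orders.fi23 ⟨MulEquiv.refl _⟩
  rw [h2] at h1
  norm_num at h1

theorem fi23_ab : (PresentedGroup.of .a : Spor.Fi23) ≠ PresentedGroup.of .b := by
  intro h
  have hbc := fi23_step (z := .c) (by decide) (by decide) h
  have hcd := fi23_step (z := .d) (by decide) (by decide) hbc
  have hde := fi23_step (z := .e) (by decide) (by decide) hcd
  have hdh := fi23_step (z := .h) (by decide) (by decide) hcd
  have hef := fi23_step (z := .f) (by decide) (by decide) hde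
  have hfg := fi23_step (z := .g) (by decide) (by decide) hef
  have hgj := fi23_step (z := .j) (by decide) (by decide) hfg
  have hhi := fi23_step (z := .i) (by decide) (by decide) hdh
  refine fi23_false (PresentedGroup.of .a) (sq (by decide)) ?_
  intro x
  cases x
  · rfl
  · exact h.symm
  · rw [h, hbc]
  · rw [h, hbc, hcd]
  · rw [h, hbc, hcd, hde]
  · rw [h, hbc, hcd, hde, hef]
  · rw [h, hbc, hcd, hde, hef, hfg]
  · rw [h, hbc, hcd, hde, hef, hfg, hgj]
  · rw [h, hbc, hcd, hdh]
  · rw [h, hbc, hcd, hdh, hhi]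

theorem fi23_gj : (PresentedGroup.of .g : Spor.Fi23) ≠ PresentedGroup.of .j := by
  intro h
  have hgf := fi23_step (z := .f) (by decide) (by decide) h.symm
  have hfe := fi23_step (z := .e) (by decide) (by decide) hgf
  have hed := fi23_step (z := .d) (by decide) (by decide) hfe
  have hdc := fi23_step (z := .c) (by decide) (by decide) hed
  have hcb := fi23_step (z := .b) (by decide) (by decide) hdc
  have hba := fi23_step (z := .a) (by decide) (by decide) hcb
  have hdh := fi23_step (z := .h) (by decide) (by decide) hed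
  have hhi := fi23_step (z := .i) (by decide) (by decide) hdh
  refine fi23_false (PresentedGroup.of .j) (sq (by decide)) ?_
  intro x
  have h0 := h.symm
  cases x
  · rw [h0, hgf, hfe, hed, hdc, hcb, hba]
  · rw [h0, hgf, hfe, hed, hdc, hcb]
  · rw [h0, hgf, hfe, hed, hdc]
  · rw [h0, hgf, hfe, hed]
  · rw [h0, hgf, hfe]
  · rw [h0, hgf]
  · exact h
  · rfl
  · rw [h0, hgf, hfe, hed, hdh]
  · rw [h0, hgf, hfe, hed, hdh, hhi]

theorem dinv_fi23 : DoubleInv 3 Spor.Fi23 := by
  have hn : ∀ x : Gen, x ∈ coxNodes edges := by intro x; cases x <;> decide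
  have h3 : ∀ x y : Gen, coxLabel edges x y = 3 → ((PresentedGroup.of x : Spor.Fi23) * PresentedGroup.of y) ^ 3 = 1 :=
    fun x y h => cox_pow (hn x) (hn y) 3 h
  obtain ⟨e1, e2, e3, e4, e5⟩ := dinv_of (G := Spor.Fi23) (a := PresentedGroup.of .a) (b := PresentedGroup.of .b)
    (f := PresentedGroup.of .g) (g := PresentedGroup.of .j) (sq (hn _)) (sq (hn _)) (sq (hn _)) (sq (hn _))
    (comm (hn _) (hn _) (by decide)) (comm (hn _) (hn _) (by decide)) (comm (hn _) (hn _) (by decide))
    (comm (hn _) (hn _) (by decide)) 1 (by simp) (by simp) (by simp) (by simp)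
  exact ⟨_, _, _, _, mul_ne_one' (sq (hn _)) fi23_ab, mul_ne_one' (sq (hn _)) fi23_gj,
    ⟨1, by rw [pow_one]; exact h3 _ _ (by decide)⟩, ⟨1, by rw [pow_one]; exact h3 _ _ (by decide)⟩, e1, e2, e3, e4, e5⟩

end Fi23

/-! ### `Fi24'` -/

section Fi24

open Spor.Fi24

theorem fi24_step {x y z : Gen} (hxz : coxLabel edges x z = 2) (hyz : coxLabel edges y z = 3)
    (h : (PresentedGroup.of x : Spor.Fi24) = PresentedGroup.of y) : (PresentedGroup.of y : Spor.Fi24) = PresentedGroup.of z :=
  step (by cases x <;> decide) (by cases y <;> decide) (by cases z <;> decide) hxz hyz h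

theorem fi24_false (u : Spor.Fi24) (hu : u * u = 1) (h : ∀ x : Gen, (PresentedGroup.of x : Spor.Fi24) = u) : False := by
  have h1 := all_comm u hu h
  have h2 : Nat.card Spor.Fi24' = 1255205709190661721292800 := NotCT.Orders.fi24 ⟨MulEquiv.refl _⟩
  have h3 : commutator Spor.Fi24 = ⊥ := by
    rw [commutator_def, Subgroup.commutator_eq_bot_iff_le_centralizer]
    intro x _
    rw [Subgroup.mem_centralizer_iff]
    intro y _
    exact h1 _ _
  have h4 : Nat.card Spor.Fi24' = 1 := by
    change Nat.card ↥(commutator Spor.Fi24) = 1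
    rw [h3, Subgroup.card_bot]
  rw [h4] at h2
  norm_num at h2

theorem fi24_lk : (PresentedGroup.of .l : Spor.Fi24) ≠ PresentedGroup.of .k := by
  intro h
  have hka := fi24_step (z := .a) (by decide) (by decide) h
  have hab := fi24_step (z := .b) (by decide) (by decide) hka
  have hbc := fi24_step (z := .c) (by decide) (by decide) hab
  have hcd := fi24_step (z := .d) (by decide) (by decide) hbc
  have hde := fi24_step (z := .e) (by decide) (by decide) hcd
  have hdh := fi24_step (z := .h) (by decide) (by decide) hcd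
  have hef := fi24_step (z := .f) (by decide) (by decide) hde
  have hfg := fi24_step (z := .g) (by decide) (by decide) hef
  have hgj := fi24_step (z := .j) (by decide) (by decide) hfg
  have hhi := fi24_step (z := .i) (by decide) (by decide) hdh
  refine fi24_false (PresentedGroup.of .l) (sq (by decide)) ?_
  intro x
  cases x
  all_goals first
  | rfl
  | (rw [h]; done)
  | (rw [h, hka]; done)
  | (rw [h, hka, hab]; done)
  | (rw [h, hka, hab, hbc]; done)
  | (rw [h, hka, hab, hbc, hcd]; done)
  | (rw [h, hka, hab, hbc, hcd, hde]; done)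
  | (rw [h, hka, hab, hbc, hcd, hdh]; done)
  | (rw [h, hka, hab, hbc, hcd, hdh, hhi]; done)
  | (rw [h, hka, hab, hbc, hcd, hde, hef]; done)
  | (rw [h, hka, hab, hbc, hcd, hde, hef, hfg]; done)
  | (rw [h, hka, hab, hbc, hcd, hde, hef, hfg, hgj])

theorem fi24_gj : (PresentedGroup.of .g : Spor.Fi24) ≠ PresentedGroup.of .j := by
  intro h
  have hgf := fi24_step (z := .f) (by decide) (by decide) h.symm
  have hfe := fi24_step (z := .e) (by decide) (by decide) hgf
  have hed := fi24_step (z := .d) (by decide) (by decide) hfe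
  have hdc := fi24_step (z := .c) (by decide) (by decide) hed
  have hcb := fi24_step (z := .b) (by decide) (by decide) hdc
  have hba := fi24_step (z := .a) (by decide) (by decide) hcb
  have hak := fi24_step (z := .k) (by decide) (by decide) hba
  have hkl := fi24_step (z := .l) (by decide) (by decide) hak
  have hdh := fi24_step (z := .h) (by decide) (by decide) hed
  have hhi := fi24_step (z := .i) (by decide) (by decide) hdh
  refine fi24_false (PresentedGroup.of .j) (sq (by decide)) ?_
  intro x
  have h0 := h.symm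
  cases x
  all_goals first
  | rfl
  | (rw [h0]; done)
  | (rw [h0, hgf]; done)
  | (rw [h0, hgf, hfe]; done)
  | (rw [h0, hgf, hfe, hed]; done)
  | (rw [h0, hgf, hfe, hed, hdc]; done)
  | (rw [h0, hgf, hfe, hed, hdc, hcb]; done)
  | (rw [h0, hgf, hfe, hed, hdc, hcb, hba]; done)
  | (rw [h0, hgf, hfe, hed, hdc, hcb, hba, hak]; done)
  | (rw [h0, hgf, hfe, hed, hdc, hcb, hba, hak, hkl]; done)
  | (rw [h0, hgf, hfe, hed, hdh]; done)
  | (rw [h0, hgf, hfe, hed, hdh, hhi]; done)

open scoped commutatorElement in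
/-- products of adjacent generators lie in the commutator subgroup -/
theorem mem_comm_of {G : Type u} [Group G] {a b : G} (ha : a * a = 1) (hb : b * b = 1) (h : (a * b) ^ 3 = 1) :
    a * b ∈ commutator G := by
  have e1 : a⁻¹ = a := inv_eq_of_mul_eq_one_left ha
  have e2 : b⁻¹ = b := inv_eq_of_mul_eq_one_left hb
  have h1 : ⁅b, a⁆ = a * b := by
    rw [commutatorElement_def, e1, e2]
    have h2 : (a * b) * (a * b * (a * b)) = 1 := by rw [← h, pow_succ, pow_two]; group
    have h3 : a * b = (a * b * (a * b))⁻¹ := eq_inv_of_mul_eq_one_left h2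
    rw [h3]
    simp only [mul_inv_rev, e1, e2]
    group
  rw [← h1]
  exact Subgroup.commutator_mem_commutator (Subgroup.mem_top _) (Subgroup.mem_top _)

theorem dinv_fi24 : DoubleInv 3 Spor.Fi24' := by
  have hn : ∀ x : Gen, x ∈ coxNodes edges := by intro x; cases x <;> decide
  have h3 : ∀ x y : Gen, coxLabel edges x y = 3 → ((PresentedGroup.of x : Spor.Fi24) * PresentedGroup.of y) ^ 3 = 1 :=
    fun x y h => cox_pow (hn x) (hn y) 3 h
  have hs : ∀ x : Gen, (PresentedGroup.of x : Spor.Fi24) * PresentedGroup.of x = 1 := fun x => sq (hn _)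
  have hm : ∀ x y : Gen, coxLabel edges x y = 3 →
      (PresentedGroup.of x : Spor.Fi24) * PresentedGroup.of y ∈ commutator Spor.Fi24 :=
    fun x y h => mem_comm_of (hs x) (hs y) (h3 x y h)
  have hm2 : ∀ x y z : Gen, (PresentedGroup.of x : Spor.Fi24) * PresentedGroup.of y ∈ commutator Spor.Fi24 →
      coxLabel edges y z = 3 → (PresentedGroup.of x : Spor.Fi24) * PresentedGroup.of z ∈ commutator Spor.Fi24 := by
    intro x y z h1 h2
    have h4 := Subgroup.mul_mem _ h1 (hm y z h2)
    have h5 : (PresentedGroup.of x : Spor.Fi24) * PresentedGroup.of y * (PresentedGroup.of y * PresentedGroup.of z) =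
        PresentedGroup.of x * PresentedGroup.of z := by
      calc _ = (PresentedGroup.of x : Spor.Fi24) * (PresentedGroup.of y * PresentedGroup.of y) * PresentedGroup.of z := by group
        _ = _ := by rw [hs, mul_one]
    rwa [h5] at h4
  have hlk : (PresentedGroup.of .l : Spor.Fi24) * PresentedGroup.of .k ∈ commutator Spor.Fi24 := hm .l .k (by decide)
  have hgj : (PresentedGroup.of .g : Spor.Fi24) * PresentedGroup.of .j ∈ commutator Spor.Fi24 := hm .g .j (by decide)
  have l1 := hm2 .l .k .a hlk (by decide)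
  have l2 := hm2 .l .a .b l1 (by decide)
  have l3 := hm2 .l .b .c l2 (by decide)
  have l4 := hm2 .l .c .d l3 (by decide)
  have l5 := hm2 .l .d .h l4 (by decide)
  have hli := hm2 .l .h .i l5 (by decide)
  have g1 := hm .g .f (by decide)
  have g2 := hm2 .g .f .e g1 (by decide)
  have g3 := hm2 .g .e .d g2 (by decide)
  have g4 := hm2 .g .d .h g3 (by decide)
  have hgi := hm2 .g .h .i g4 (by decide)
  obtain ⟨e1, e2, e3, e4, e5⟩ := dinv_of (G := Spor.Fi24) (a := PresentedGroup.of .l) (b := PresentedGroup.of .k)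
    (f := PresentedGroup.of .g) (g := PresentedGroup.of .j) (sq (hn _)) (sq (hn _)) (sq (hn _)) (sq (hn _))
    (comm (hn _) (hn _) (by decide)) (comm (hn _) (hn _) (by decide)) (comm (hn _) (hn _) (by decide))
    (comm (hn _) (hn _) (by decide)) (PresentedGroup.of .i) (comm (hn _) (hn _) (by decide))
    (comm (hn _) (hn _) (by decide)) (comm (hn _) (hn _) (by decide)) (comm (hn _) (hn _) (by decide))
  refine ⟨⟨_, hlk⟩, ⟨_, hgj⟩, ⟨_, hli⟩, ⟨_, hgi⟩, ?_, ?_, ⟨1, ?_⟩, ⟨1, ?_⟩, Subtype.ext e1, Subtype.ext e2, Subtype.ext e3,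
    Subtype.ext e4, Subtype.ext e5⟩
  · exact fun h => mul_ne_one' (sq (hn _)) fi24_lk (congrArg Subtype.val h)
  · exact fun h => mul_ne_one' (sq (hn _)) fi24_gj (congrArg Subtype.val h)
  · exact Subtype.ext (by rw [pow_one]; exact h3 _ _ (by decide))
  · exact Subtype.ext (by rw [pow_one]; exact h3 _ _ (by decide))

end Fi24

end Cfsg.Agent.H978.Exo.Fi
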