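import Cfsg.Agent.H978.Exo.Lift
import Cfsg.Agent.CTwoTab.HN

/-!
# Double inversions in `HS`, `p = 3, 5` (helper978, for S5268)

Permutations of 100 points generating `S3 × S3`-like and `D10 × D10`-like configurations.
-/

set_option autoImplicit false
set_option maxRecDepth 100000

namespace Cfsg.Agent.H978.Exo.HS

open Cfsg Cfsg.Agent.H789.Exo Cfsg.Agent.HN Cfsg.Agent.HN.HS100 Cfsg.Agent.SporadicA.PermTab
open Equiv Cfsg.Agent.HN.Pres

/-- `z y z` -/
noncomputable def W : Perm (Fin 100) := Z * Y * Z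

/-- letters -/
noncomputable def lt (a : ℕ) : Perm (Fin 100) :=
  match a with
  | 0 => X
  | 1 => Y
  | 2 => Y⁻¹
  | 3 => W
  | 4 => W⁻¹
  | _ => 1

theorem W_mem : W ∈ Q :=
  ⟨gz * gy * gz, by
    change sgn (gz * gy * gz) = 1
    rw [map_mul, map_mul, sgn_gy, sgn_gz]
    decide, by rw [map_mul, map_mul, φ_gy, φ_gz]; rfl⟩

theorem lt_mem (a : ℕ) : lt a ∈ Q := by
  unfold lt
  split
  · exact ⟨gx, gx_mem, φ_gx⟩
  · exact ⟨gy, gy_mem, φ_gy⟩
  · exact Q.inv_mem ⟨gy, gy_mem, φ_gy⟩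
  · exact W_mem
  · exact Q.inv_mem W_mem
  · exact Q.one_mem

/-- the value of a word -/
noncomputable def ev (w : List ℕ) : Q := (w.map fun a => (⟨lt a, lt_mem a⟩ : Q)).prod

/-- the action of a letter, for the kernel -/
noncomputable def act (a : ℕ) (i : ℕ) : ℕ :=
  match a with
  | 0 => lk tX i
  | 1 => lk tY i
  | 2 => lk tYi i
  | 3 => lk tZ (lk tY (lk tZ i))
  | 4 => lk tZ (lk tYi (lk tZ i))
  | _ => i

theorem lt_apply (a : ℕ) (i : Fin 100) : ((lt a i : Fin 100) : ℕ) = act a i := by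
  unfold lt act
  split
  · rfl
  · rfl
  · rfl
  · rfl
  · rfl
  · rfl

noncomputable def evN (w : List ℕ) (i : ℕ) : ℕ := w.foldr act i

theorem ev_apply (w : List ℕ) (i : Fin 100) : (((ev w : Perm (Fin 100)) i : Fin 100) : ℕ) = evN w i := by
  induction w with
  | nil => rfl
  | cons a w ih =>
    change ((lt a ((ev w : Perm (Fin 100)) i) : Fin 100) : ℕ) = act a (evN w i)
    rw [lt_apply, ih]

theorem ev_eq {u v : List ℕ} (h : ∀ i < 100, evN u i = evN v i) : ev u = ev v := by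
  apply Subtype.ext
  apply Equiv.ext
  intro i
  apply Fin.ext
  rw [ev_apply, ev_apply]
  exact h i i.2

theorem ev_append (u v : List ℕ) : ev (u ++ v) = ev u * ev v := by
  unfold ev
  rw [List.map_append, List.prod_append]

theorem ev_ne {u : List ℕ} (i : ℕ) (hi : i < 100) (h : evN u i ≠ i) : ev u ≠ 1 := by
  intro h1
  apply h
  have h2 := ev_apply u ⟨i, hi⟩
  rw [h1] at h2
  exact h2.symm

/-- the certificate -/
theorem dinv_of {p : ℕ} {x y s t : List ℕ} (i j : ℕ) (hi : i < 100) (hj : j < 100) (h1 : evN x i ≠ i)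
    (h2 : evN y j ≠ j) (h3 : ∀ i < 100, evN (List.replicate p x).flatten i = i)
    (h4 : ∀ i < 100, evN (List.replicate p y).flatten i = i)
    (h5 : ∀ i < 100, evN (x ++ y) i = evN (y ++ x) i) 
    (h7 : ∀ i < 100, evN (x ++ (s ++ x)) i = evN s i) (h8 : ∀ i < 100, evN (s ++ y) i = evN (y ++ s) i)
    (h9 : ∀ i < 100, evN (t ++ x) i = evN (x ++ t) i) (h10 : ∀ i < 100, evN (y ++ (t ++ y)) i = evN t i) :
    DoubleInv p Q := by
  have hpow : ∀ w : List ℕ, ∀ n : ℕ, ev (List.replicate n w).flatten = ev w ^ n := by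
    intro w n
    induction n with
    | zero => rw [pow_zero]; rfl
    | succ n ih => rw [List.replicate_succ, List.flatten_cons, ev_append, ih, pow_succ']
  have key : ∀ u v : Q, u * (v * u) = v → v * u * v⁻¹ = u⁻¹ := by
    intro u v huv
    rw [mul_inv_eq_iff_eq_mul]
    exact eq_inv_mul_of_mul_eq huv
  refine ⟨ev x, ev y, ev s, ev t, ev_ne i hi h1, ev_ne j hj h2, ⟨1, ?_⟩, ⟨1, ?_⟩, ?_, ?_, ?_, ?_, ?_⟩
  · rw [pow_one, ← hpow]
    exact ev_eq (v := []) h3
  · rw [pow_one, ← hpow]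
    exact ev_eq (v := []) h4
  · rw [← ev_append, ← ev_append]
    exact ev_eq h5
  · apply key
    rw [← ev_append, ← ev_append]
    exact ev_eq h7
  · rw [← ev_append, ← ev_append]
    exact ev_eq h8
  · rw [← ev_append, ← ev_append]
    exact ev_eq h9
  · apply key
    rw [← ev_append, ← ev_append]
    exact ev_eq h10

theorem dinv_Q5 : DoubleInv 5 Q :=
  dinv_of (x := [0, 1, 0, 2, 3, 0, 1, 0, 2, 3, 0, 1, 0, 2, 3]) (y := [4, 4, 4, 2, 4, 2, 2, 4, 0, 3, 1, 3, 2, 4, 4, 0]) (s := [2, 4, 1, 0, 3, 2, 0, 2, 4, 4, 0, 1, 3, 1, 3, 0, 2, 2, 4])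
    (t := [2, 4, 0, 4, 4, 2, 4, 2, 2, 0, 2, 4]) 0 0 (by norm_num) (by norm_num) (by decide +kernel) (by decide +kernel) (by decide +kernel) (by decide +kernel)
    (by decide +kernel) (by decide +kernel) (by decide +kernel) (by decide +kernel) (by decide +kernel)

theorem dinv_Q3 : DoubleInv 3 Q :=
  dinv_of (x := [1, 1]) (y := [4, 0, 2, 0, 4, 2, 4, 4, 1, 3, 3, 3, 1, 3, 0]) (s := [3, 0, 1, 4, 0, 2, 3, 0])
    (t := [1]) 0 0 (by norm_num) (by norm_num) (by decide +kernel) (by decide +kernel) (by decide +kernel) (by decide +kernel)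
    (by decide +kernel) (by decide +kernel) (by decide +kernel) (by decide +kernel) (by decide +kernel)

theorem dinv3 : DoubleInv 3 Spor.HS := by
  obtain ⟨⟨f⟩, -⟩ := DoubleCover.nonempty_Q H0Basic.card_H0 P1408.gx_sq_ne_one
  exact dinv_Q3.congr f

theorem dinv5 : DoubleInv 5 Spor.HS := by
  obtain ⟨⟨f⟩, -⟩ := DoubleCover.nonempty_Q H0Basic.card_H0 P1408.gx_sq_ne_one
  exact dinv_Q5.congr f

end Cfsg.Agent.H978.Exo.HS
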