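import Cfsg.Agent.H978.Exo.Lift
import Cfsg.Agent.H978.Exo.HS
import Cfsg.Agent.H978.Exo.Fi
import Cfsg.Agent.NotCT.Orders
import Cfsg.Agent.HN.A12Group
import Cfsg.Agent.S1701
import Cfsg.Agent.TypeM.FactsLy
import Cfsg.Agent.MonsterX.ThOneClass
import Cfsg.Agent.Schreier.CoTwoStab
import Cfsg.Agent.KFacts.Baby.RowB
import Cfsg.Agent.BabyM.Instance
import Cfsg.Agent.MonsterX.KDone
import Cfsg.Agent.MonsterP.Equiv

/-!
# Double inversions in sporadic groups (helper978, for S5268)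

`dinv_hn`, `dinv_ly` (`p = 3, 5`), `dinv_th` (`p = 3`), `dinv_co2`, `dinv_b`, `dinv_m` (`p = 3, 5`).
-/

set_option autoImplicit false

namespace Cfsg.Agent.H978.Exo

open Cfsg Cfsg.Spor Cfsg.Agent.H789.Exo

universe u v

theorem not_dvd_two {p : ℕ} (hp : p = 3 ∨ p = 5) (n : ℕ) : ¬ p ∣ 2 ^ n := by
  intro h
  have hpp : p.Prime := by rcases hp with rfl | rfl <;> norm_num
  have h1 := (Nat.prime_dvd_prime_iff_eq hpp Nat.prime_two).1 (hpp.dvd_of_dvd_pow h)
  rcases hp with rfl | rfl <;> norm_num at h1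

theorem fact_of {p : ℕ} (hp : p = 3 ∨ p = 5) : Fact p.Prime := ⟨by rcases hp with rfl | rfl <;> norm_num⟩

/-- the kernel of a homomorphism is equivalent to a set -/
theorem card_ker_eq {L : Type u} {M : Type v} [Group L] [Group M] (π : L →* M) {W : Type*} [Group W] (f : L →* W)
    (hf : Function.Injective f) (Q : Subgroup W) (hQ : ∀ q ∈ Q, ∃ l, f l = q) (h : ∀ l, π l = 1 ↔ f l ∈ Q) :
    Nat.card π.ker = Nat.card Q := by
  refine Nat.card_congr (Equiv.ofBijective (fun l => (⟨f l.1, (h _).1 l.2⟩ : Q)) ⟨?_, ?_⟩)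
  · intro a b hab
    exact Subtype.ext (hf (congrArg Subtype.val hab))
  · rintro ⟨q, hq⟩
    obtain ⟨l, rfl⟩ := hQ q hq
    exact ⟨⟨l, (h l).2 hq⟩, rfl⟩

/-! ### the Harada-Norton group -/

theorem dinv_hn {p : ℕ} (hp : p = 3 ∨ p = 5) : DoubleInv p Spor.HN := by
  have : IsSimpleGroup Spor.HN := S1701.result.1
  obtain ⟨K, ⟨e⟩⟩ := HN.A12Group.exists_alternating
  have h : DoubleInv p (alternatingGroup (Fin 12)) := by
    rcases hp with rfl | rfl
    · exact dinv_alt3 12 (by norm_num) le_rfl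
    · exact dinv_alt5 12 (by norm_num) le_rfl
  exact (h.congr e.symm).of_injective K.subtype K.subtype_injective

/-! ### the Lyons group -/

theorem dinv_ly {p : ℕ} (hp : p = 3 ∨ p = 5) : DoubleInv p Spor.Ly := by
  have := fact_of hp
  have hfin : Finite Cfsg.Spor.Ly := Cfsg.Agent.Ly.Setup.finite_ly
  obtain ⟨hc, ⟨e⟩, -⟩ := TypeM.FactsLy.isNonsplit_ly
  have h : DoubleInv p (alternatingGroup (Fin 11)) := by
    rcases hp with rfl | rfl
    · exact dinv_alt3 11 (by norm_num) (by norm_num)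
    · exact dinv_alt5 11 (by norm_num) (by norm_num)
  have h1 := (h.congr e.symm).lift (QuotientGroup.mk' _) (QuotientGroup.mk'_surjective _) (by
    rw [QuotientGroup.ker_mk', hc]
    exact not_dvd_two hp 1)
  exact h1.of_injective (Subgroup.subtype _) (Subgroup.subtype_injective _)

/-! ### the Thompson group -/

theorem dinv_th : DoubleInv 3 Spor.Th := by
  have := fact_of (Or.inl rfl : 3 = 3 ∨ 3 = 5)
  have hfin : Finite Cfsg.Spor.Th := by
    apply Nat.finite_of_card_ne_zero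
    rw [NotCT.Orders.th ⟨MulEquiv.refl _⟩]
    norm_num
  obtain ⟨Q, hQ, hc, -, -, ⟨e⟩⟩ := MonsterX.ThOneClass.struct
  have h1 := ((dinv_alt3 9 (by norm_num) (by norm_num)).congr e.symm).lift (QuotientGroup.mk' Q)
    (QuotientGroup.mk'_surjective _) (by
      rw [QuotientGroup.ker_mk', hc]
      exact not_dvd_two (Or.inl rfl) 9)
  exact h1.of_injective (Subgroup.subtype _) (Subgroup.subtype_injective _)

/-! ### the Conway groups -/

theorem dt_leechU' : Cfsg.Agent.SporadicStructure.Co2RankThree.dt Spor.leechU' Spor.leechU' = 32 := by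
  decide +kernel

theorem dinv_stab {p : ℕ} (hp : p = 3 ∨ p = 5) : DoubleInv p (MulAction.stabilizer Co0 Spor.leechU') := by
  have h : DoubleInv p Spor.HS := by
    rcases hp with rfl | rfl
    · exact HS.dinv3
    · exact HS.dinv5
  let f : Spor.HS →* MulAction.stabilizer Co0 Spor.leechU' :=
    { toFun := fun x => ⟨⟨x.1, x.2.1.1⟩, x.2.2⟩
      map_one' := rfl
      map_mul' := fun _ _ => rfl }
  refine h.of_injective f fun a b hab => ?_
  exact Subtype.ext (congrArg (fun z : MulAction.stabilizer Co0 Spor.leechU' => (z.1 : Equiv.Perm leechLattice)) hab)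

theorem dinv_co2 {p : ℕ} (hp : p = 3 ∨ p = 5) : DoubleInv p Spor.Co2 := by
  obtain ⟨e⟩ := Schreier.CoTwoStab.exists_equiv Spor.leechU' dt_leechU'
  exact (dinv_stab hp).congr e

theorem dinv_co0 {p : ℕ} (hp : p = 3 ∨ p = 5) : DoubleInv p Co0 :=
  (dinv_stab hp).of_injective (Subgroup.subtype _) (Subgroup.subtype_injective _)

theorem card_center_co0 : Nat.card (Subgroup.center Co0) = 2 := Cfsg.Agent.S0398.result

theorem dinv_co1 {p : ℕ} (hp : p = 3 ∨ p = 5) : DoubleInv p Spor.Co1 := by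
  have := fact_of hp
  refine (dinv_co0 hp).of_ker (QuotientGroup.mk' (Subgroup.center Co0)) ?_
  rw [QuotientGroup.ker_mk', card_center_co0]
  exact not_dvd_two hp 1

/-! ### the Baby Monster and the Monster -/

theorem dinv_of_model {p : ℕ} (hp : p = 3 ∨ p = 5) {X : Type u} [Group X] {G C Q : Subgroup X} (hCG : C ≤ G)
    (hQ : Q ≤ C) [Finite C] {K : Type v} [Group K] {π : C →* K} (hπ : Function.Surjective π)
    (hk : ∀ g : C, π g = 1 ↔ (g : X) ∈ Q) {n : ℕ} (hc : Nat.card Q = 2 ^ n) (h : DoubleInv p K) : DoubleInv p G := by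
  have := fact_of hp
  have h1 : DoubleInv p C := by
    refine h.lift π hπ ?_
    rw [card_ker_eq π C.subtype C.subtype_injective Q (fun q hq => ⟨⟨q, hQ hq⟩, rfl⟩) hk, hc]
    exact not_dvd_two hp n
  exact h1.of_injective (Subgroup.inclusion hCG) (Subgroup.inclusion_injective hCG)

theorem finite_subgroup {X : Type u} [Group X] {G C : Subgroup X} (hCG : C ≤ G) [Finite G] : Finite C :=
  Finite.of_injective _ (Subgroup.inclusion_injective hCG)

theorem dinv_b {p : ℕ} (hp : p = 3 ∨ p = 5) {K : Type u} [Group K] (h : Spor.IsoB K) : DoubleInv p K := by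
  obtain ⟨e⟩ := KFacts.Baby.RowB.exists_iso h
  have A := BabyM.Instance.all
  obtain ⟨π, hs, hk⟩ := A.grp.quot
  have hfin := A.finite_G
  have hC := finite_subgroup A.C_le_G
  obtain ⟨e'⟩ := Schreier.CoTwoStab.exists_equiv _ BabyM.GroupInst.dt_l₀
  exact (dinv_of_model hp A.C_le_G A.grp.Q_le hs hk A.grp.Q_card ((dinv_co2 hp).congr e'.symm)).congr e

theorem dinv_m {p : ℕ} (hp : p = 3 ∨ p = 5) : DoubleInv p Spor.Monster := by
  obtain ⟨e⟩ := MonsterP.Equiv.equiv
  have A := MonsterX.KDone.mGroup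
  obtain ⟨π, hs, hk⟩ := A.quot
  have hCG : MonsterX.InstData.M.C ≤ MonsterX.InstData.M.G := fun _ h => Subgroup.subset_closure (Or.inl h)
  have hfin : Finite MonsterX.InstData.M.G := by
    apply Nat.finite_of_card_ne_zero
    rw [MonsterP.EquivOf.isM_model.2]
    norm_num
  have hC := finite_subgroup hCG
  exact (dinv_of_model hp hCG A.Q_le hs hk A.Q_card (dinv_co1 hp)).congr e.symm

/-! ### the rows -/

section

variable {p n : ℕ} {G : Type u} [Group G]

theorem prime_mem (h : Pearly p n G) {N : ℕ} (hN : Nat.card G = N) (L : List (ℕ × ℕ)) (hL : ∀ x ∈ L, x.1.Prime)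
    (hprod : N = (L.map fun x => x.1 ^ x.2).prod) (M : List ℕ) (hM : ∀ x ∈ L, x.1 ∈ M ∨ ¬ (x.1 ^ 5 ∣ N ∧ 3 ≤ x.1)) :
    p ∈ M := by
  have h1 := h.pow_dvd
  rw [hN] at h1
  obtain ⟨a, ha, rfl⟩ := eq_of_dvd_prod h.prime L hL (by rw [← hprod]; exact (dvd_pow_self p (by norm_num)).trans h1)
  exact (hM a ha).resolve_right fun h2 => h2 ⟨h1, h.odd⟩

/-- [EXO-SP2] `Fi22` -/
theorem row_Fi22 (h : Pearly p n G) (hX : Spor.IsoFi22 G) : False := by
  have h1 := prime_mem h (NotCT.Orders.fi22 hX) [(2, 17), (3, 9), (5, 2), (7, 1), (11, 1), (13, 1)] (by norm_num)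
    (by norm_num) [3] (by norm_num)
  obtain ⟨e⟩ := hX
  simp only [List.mem_singleton] at h1
  subst h1
  exact h.dinv (Fi.dinv_fi22.congr e.symm)

/-- [EXO-SP2] `Fi23` -/
theorem row_Fi23 (h : Pearly p n G) (hX : Spor.IsoFi23 G) : False := by
  have h1 := prime_mem h (NotCT.Orders.fi23 hX) [(2, 18), (3, 13), (5, 2), (7, 1), (11, 1), (13, 1), (17, 1), (23, 1)]
    (by norm_num) (by norm_num) [3] (by norm_num)
  obtain ⟨e⟩ := hX
  simp only [List.mem_singleton] at h1
  subst h1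
  exact h.dinv (Fi.dinv_fi23.congr e.symm)

/-- [EXO-SP2] `Fi24'` -/
theorem row_Fi24 (h : Pearly p n G) (hX : Spor.IsoFi24' G) : False := by
  have h1 := prime_mem h (NotCT.Orders.fi24 hX)
    [(2, 21), (3, 16), (5, 2), (7, 3), (11, 1), (13, 1), (17, 1), (23, 1), (29, 1)]
    (by norm_num) (by norm_num) [3] (by norm_num)
  obtain ⟨e⟩ := hX
  simp only [List.mem_singleton] at h1
  subst h1
  exact h.dinv (Fi.dinv_fi24.congr e.symm)

/-- [EXO-SP2] the Harada-Norton group -/
theorem row_HN (h : Pearly p n G) (hX : Spor.IsoHN G) : False := by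
  have h1 := prime_mem h (NotCT.Orders.hn hX) [(2, 14), (3, 6), (5, 6), (7, 1), (11, 1), (19, 1)]
    (by norm_num) (by norm_num) [3, 5] (by norm_num)
  obtain ⟨e⟩ := hX
  simp only [List.mem_cons, List.not_mem_nil, or_false] at h1
  exact h.dinv ((dinv_hn h1).congr e.symm)

/-- [EXO-SP2] the Lyons group -/
theorem row_Ly (h : Pearly p n G) (hX : Spor.IsoLy G) : False := by
  have h1 := prime_mem h (NotCT.Orders.ly hX) [(2, 8), (3, 7), (5, 6), (7, 1), (11, 1), (31, 1), (37, 1), (67, 1)]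
    (by norm_num) (by norm_num) [3, 5] (by norm_num)
  obtain ⟨e⟩ := hX
  simp only [List.mem_cons, List.not_mem_nil, or_false] at h1
  exact h.dinv ((dinv_ly h1).congr e.symm)

/-- [EXO-SP2] the Thompson group -/
theorem row_Th (h : Pearly p n G) (hX : Spor.IsoTh G) : False := by
  have h1 := prime_mem h (NotCT.Orders.th hX) [(2, 15), (3, 10), (5, 3), (7, 2), (13, 1), (19, 1), (31, 1)]
    (by norm_num) (by norm_num) [3] (by norm_num)
  obtain ⟨e⟩ := hX
  simp only [List.mem_singleton] at h1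
  subst h1
  exact h.dinv (dinv_th.congr e.symm)

/-- [EXO-SP2] the Baby Monster -/
theorem row_B (h : Pearly p n G) (hX : Spor.IsoB G) : False := by
  have h1 := prime_mem h (NotCT.Orders.b hX)
    [(2, 41), (3, 13), (5, 6), (7, 2), (11, 1), (13, 1), (17, 1), (19, 1), (23, 1), (31, 1), (47, 1)]
    (by norm_num) (by norm_num) [3, 5] (by norm_num)
  simp only [List.mem_cons, List.not_mem_nil, or_false] at h1
  exact h.dinv (dinv_b h1 hX)

/-- the Monster: `p = 7` -/
theorem seven_of_M (h : Pearly p n G) (hX : Spor.IsoM G) : p = 7 := by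
  have h1 := prime_mem h (NotCT.Orders.m hX)
    [(2, 46), (3, 20), (5, 9), (7, 6), (11, 2), (13, 3), (17, 1), (19, 1), (23, 1), (29, 1), (31, 1), (41, 1), (47, 1),
      (59, 1), (71, 1)]
    (by norm_num) (by norm_num) [3, 5, 7] (by norm_num)
  obtain ⟨e⟩ := hX
  simp only [List.mem_cons, List.not_mem_nil, or_false] at h1
  rcases h1 with rfl | rfl | rfl
  · exact (h.dinv ((dinv_m (Or.inl rfl)).congr e.symm)).elim
  · exact (h.dinv ((dinv_m (Or.inr rfl)).congr e.symm)).elim
  · rfl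

end

end Cfsg.Agent.H978.Exo
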