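import Cfsg.Agent.H978.Exo.Rows
import Cfsg.Agent.H587.NR.He
import Cfsg.Agent.MonsterX.HeM.Main
import Cfsg.Agent.MonsterX.InstanceFinal
import Cfsg.Agent.S1695

/-!
# The Monster at `p = 7` (helper978, for S5268)

`He` is a subgroup of the Monster; its Sylow 7-subgroup has order `7 ^ 3`, and its normalizer induces `3 × S₃` on it.
-/

set_option autoImplicit false
set_option maxRecDepth 100000

namespace Cfsg.Agent.H978.Exo.Seven

open Cfsg Cfsg.Agent.H789.Exo Subgroup
open Cfsg.Spor.He (Gen)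
open Cfsg.Agent.SporadicB.HePerm (act wd phi phi_wd_apply)
open Cfsg.Agent.FixBN.HeStab Cfsg.Agent.KFacts.He.Lv Cfsg.Agent.CpAutHe.Cnt
open Cfsg.Agent.H587.NR Cfsg.Agent.H587.NR.He

universe u

/-- an involution inverting the center of the Sylow subgroup -/
def T : List Gen := [.a, .c, .e, .g, .c, .f, .e, .f, .g, .c, .a, .e]

/-- another one -/
def T2 : List Gen := [.d, .b, .d, .e, .d, .b, .f, .e, .c, .a, .f, .a, .c, .b]

theorem false_of {n : ℕ} {G : Type u} [Group G] [Finite G] (h : Pearly 7 n G) (f : Spor.He →* G)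
    (hf : Function.Injective f) : False := by
  have h7 : Fact (Nat.Prime 7) := ⟨by norm_num⟩
  have r1 : wd B7 * wd A7 = wd W7 * (wd A7 * wd B7) := by
    have h1 := eq_of_chkB (show chkB (B7 ++ A7) (W7 ++ (A7 ++ B7)) = true by decide +kernel)
    rwa [wd_append, wd_append, wd_append] at h1
  have r2 : wd A7 * wd W7 = wd W7 * wd A7 := by
    have h1 := eq_of_chkB (show chkB (A7 ++ W7) (W7 ++ A7) = true by decide +kernel)
    rwa [wd_append, wd_append] at h1
  have r3 : wd B7 * wd W7 = wd W7 * wd B7 := by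
    have h1 := eq_of_chkB (show chkB (B7 ++ W7) (W7 ++ B7) = true by decide +kernel)
    rwa [wd_append, wd_append] at h1
  have r4 : wd A7 ^ 7 = 1 := by
    have h1 := eq_of_chkB (show chkB (pw A7 7) [] = true by decide +kernel)
    rwa [wd_pw, wd_nil] at h1
  have r5 : wd B7 ^ 7 = 1 := by
    have h1 := eq_of_chkB (show chkB (pw B7 7) [] = true by decide +kernel)
    rwa [wd_pw, wd_nil] at h1
  have r6 : wd W7 ^ 7 = 1 := by
    have h1 := eq_of_chkB (show chkB (pw W7 7) [] = true by decide +kernel)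
    rwa [wd_pw, wd_nil] at h1
  have r7 : wd W7 ≠ 1 := by
    rw [← wd_nil]
    exact ne_of_chkB (by decide +kernel)
  have t1 : wd T * wd T = 1 := by
    have h1 := eq_of_chkB (show chkB (T ++ T) [] = true by decide +kernel)
    rwa [wd_append, wd_nil] at h1
  have t2 : wd T2 * wd T2 = 1 := by
    have h1 := eq_of_chkB (show chkB (T2 ++ T2) [] = true by decide +kernel)
    rwa [wd_append, wd_nil] at h1
  have ta : wd T * wd A7 = wd A7 * wd W7 ^ 6 * wd T := by
    have h1 := eq_of_chkB (show chkB (T ++ A7) ((A7 ++ pw W7 6) ++ T) = true by decide +kernel)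
    rwa [wd_append, wd_append, wd_append, wd_pw] at h1
  have tb : wd T * wd B7 = wd A7 ^ 2 * wd B7 ^ 6 * wd W7 ^ 5 * wd T := by
    have h1 := eq_of_chkB (show chkB (T ++ B7) (((pw A7 2 ++ pw B7 6) ++ pw W7 5) ++ T) = true by decide +kernel)
    rwa [wd_append, wd_append, wd_append, wd_append, wd_pw, wd_pw, wd_pw] at h1
  have ta2 : wd T2 * wd A7 = wd A7 ^ 4 * wd B7 ^ 6 * wd W7 ^ 5 * wd T2 := by
    have h1 := eq_of_chkB (show chkB (T2 ++ A7) (((pw A7 4 ++ pw B7 6) ++ pw W7 5) ++ T2) = true by decide +kernel)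
    rwa [wd_append, wd_append, wd_append, wd_append, wd_pw, wd_pw, wd_pw] at h1
  have tb2 : wd T2 * wd B7 = wd A7 ^ 1 * wd B7 ^ 3 * wd W7 ^ 5 * wd T2 := by
    have h1 := eq_of_chkB (show chkB (T2 ++ B7) (((pw A7 1 ++ pw B7 3) ++ pw W7 5) ++ T2) = true by decide +kernel)
    rwa [wd_append, wd_append, wd_append, wd_append, wd_pw, wd_pw, wd_pw] at h1
  have u1 : (wd T2 * wd T) ^ 21 = 1 := by
    have h1 := eq_of_chkB (show chkB (pw (T2 ++ T) 21) [] = true by decide +kernel)
    rwa [wd_pw, wd_append, wd_nil] at h1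
  have u2 : (wd T2 * wd T) ^ 7 * wd B7 ≠ wd B7 * (wd T2 * wd T) ^ 7 := by
    have h1 := ne_of_chkB (show chkB (pw (T2 ++ T) 7 ++ B7) (B7 ++ pw (T2 ++ T) 7) = false by decide +kernel)
    rwa [wd_append, wd_append, wd_pw, wd_append] at h1
  -- transport
  set a := f (wd A7) with ha
  set b := f (wd B7) with hb
  set w := f (wd W7) with hw
  set t := f (wd T) with ht
  set s := f (wd T2) with hs
  have r1' : b * a = w * (a * b) := by rw [hb, ha, hw, ← map_mul, r1, map_mul, map_mul]
  have r2' : a * w = w * a := by rw [ha, hw, ← map_mul, r2, map_mul]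
  have r3' : b * w = w * b := by rw [hb, hw, ← map_mul, r3, map_mul]
  have r4' : a ^ 7 = 1 := by rw [ha, ← map_pow, r4, map_one]
  have r5' : b ^ 7 = 1 := by rw [hb, ← map_pow, r5, map_one]
  have r6' : w ^ 7 = 1 := by rw [hw, ← map_pow, r6, map_one]
  have r7' : w ≠ 1 := fun h1 => r7 (hf (by rw [map_one]; exact h1))
  have t1' : t * t = 1 := by rw [ht, ← map_mul, t1, map_one]
  have t2' : s * s = 1 := by rw [hs, ← map_mul, t2, map_one]
  set R : Subgroup G := closure {a, b} with hR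
  have haR : a ∈ R := subset_closure (by simp)
  have hbR : b ∈ R := subset_closure (by simp)
  have hwR : w ∈ R := by
    have h1 : w = b * a * (a * b)⁻¹ := by rw [r1', mul_inv_cancel_right]
    rw [h1]
    exact R.mul_mem (R.mul_mem hbR haR) (R.inv_mem (R.mul_mem haR hbR))
  have hRp : IsPGroup 7 R := isPGroup_closure r1' r2' r3' (by norm_num) r4' r5' r6'
  have hRc : 7 ^ 3 ≤ Nat.card R := by
    obtain ⟨m, hn⟩ := IsPGroup.iff_card.1 hRp
    rw [hn]
    refine Nat.pow_le_pow_right (by norm_num) ?_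
    by_contra h3
    have hcomm : ∀ u v : R, u * v = v * u := by
      have h4 : m = 0 ∨ m = 1 ∨ m = 2 := by omega
      rcases h4 with rfl | rfl | rfl
      · have : Subsingleton R := (Nat.card_eq_one_iff_unique.1 (by rw [hn, pow_zero])).1
        intro u v
        exact Subsingleton.elim _ _
      · have : IsCyclic R := isCyclic_of_prime_card (by rw [hn, pow_one])
        exact (IsCyclic.isMulCommutative (α := R)).is_comm.comm
      · exact (IsPGroup.isMulCommutative_of_card_eq_prime_sq hn).is_comm.comm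
    have h5 : b * a = a * b := congrArg Subtype.val (hcomm ⟨b, hbR⟩ ⟨a, haR⟩)
    apply r7'
    rw [h5] at r1'
    exact (mul_eq_right.1 r1'.symm)
  have hnorm : ∀ g : G, g * g = 1 → g * a * g⁻¹ ∈ R → g * b * g⁻¹ ∈ R → g ∈ normalizer (R : Set G) := by
    intro g hg h1 h2
    have h3 : ∀ r ∈ R, g * r * g⁻¹ ∈ R := by
      intro r hr
      have h6 : R ≤ R.comap (MulAut.conj g).toMonoidHom := by
        conv_lhs => rw [hR]
        rw [closure_le]
        rintro z (rfl | hz)
        · exact h1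
        · rw [Set.mem_singleton_iff] at hz
          rw [hz]
          exact h2
      exact h6 hr
    rw [mem_normalizer_iff]
    intro r
    refine ⟨h3 r, fun h4 => ?_⟩
    have h5 := h3 _ h4
    have h6 : g⁻¹ = g := inv_eq_of_mul_eq_one_left hg
    rw [h6] at h5
    have h7 : g * (g * r * g) * g = (g * g) * r * (g * g) := by group
    rwa [h7, hg, one_mul, mul_one] at h5
  have htN : t ∈ normalizer (R : Set G) := by
    refine hnorm t t1' ?_ ?_
    · have h1 : t * a = a * w ^ 6 * t := by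
        rw [ht, ha, hw, ← map_mul, ta]
        simp only [map_mul, map_pow]
      rw [h1, mul_inv_cancel_right]
      exact R.mul_mem haR (R.pow_mem hwR _)
    · have h1 : t * b = a ^ 2 * b ^ 6 * w ^ 5 * t := by
        rw [ht, hb, ha, hw, ← map_mul, tb]
        simp only [map_mul, map_pow]
      rw [h1, mul_inv_cancel_right]
      exact R.mul_mem (R.mul_mem (R.pow_mem haR _) (R.pow_mem hbR _)) (R.pow_mem hwR _)
  have hsN : s ∈ normalizer (R : Set G) := by
    refine hnorm s t2' ?_ ?_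
    · have h1 : s * a = a ^ 4 * b ^ 6 * w ^ 5 * s := by
        rw [hs, ha, hb, hw, ← map_mul, ta2]
        simp only [map_mul, map_pow]
      rw [h1, mul_inv_cancel_right]
      exact R.mul_mem (R.mul_mem (R.pow_mem haR _) (R.pow_mem hbR _)) (R.pow_mem hwR _)
    · have h1 : s * b = a ^ 1 * b ^ 3 * w ^ 5 * s := by
        rw [hs, hb, ha, hw, ← map_mul, tb2]
        simp only [map_mul, map_pow]
      rw [h1, mul_inv_cancel_right]
      exact R.mul_mem (R.mul_mem (R.pow_mem haR _) (R.pow_mem hbR _)) (R.pow_mem hwR _)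
  obtain ⟨φ, hφ⟩ := h.aut R hRp hRc
  let t0 : normalizer (R : Set G) := ⟨t, htN⟩
  let s0 : normalizer (R : Set G) := ⟨s, hsN⟩
  have e1 : φ t0 * φ t0 = 1 := by
    rw [← map_mul, show t0 * t0 = 1 from Subtype.ext t1', map_one]
  have e2 : φ s0 * φ s0 = 1 := by
    rw [← map_mul, show s0 * s0 = 1 from Subtype.ext t2', map_one]
  have e3 : φ ((s0 * t0) ^ 2) = 1 := by
    rw [map_pow, map_mul, mul_pow, pow_two, pow_two, e1, e2, one_mul]
  obtain ⟨k, hk⟩ := (hφ _).1 e3
  have hk' : ((s * t) ^ 2) ^ 7 ^ k ∈ centralizer (R : Set G) := hk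
  have u1' : (s * t) ^ 21 = 1 := by rw [hs, ht, ← map_mul, ← map_pow, u1, map_one]
  have h8 : (s * t) ^ 7 = (((s * t) ^ 2) ^ 7 ^ k) ^ 14 := by
    rw [← pow_mul, ← pow_mul]
    have h9 : 7 ≡ 2 * (7 ^ k * 14) [MOD 21] := by
      have h10 : 1 ≡ 4 * 7 ^ k [MOD 3] := by
        have h11 : 7 ^ k ≡ 1 ^ k [MOD 3] := Nat.ModEq.pow k (by decide)
        rw [one_pow] at h11
        exact ((h11.mul_left 4).trans (by decide)).symm
      have h12 := Nat.ModEq.mul_left' 7 h10
      have h13 : 2 * (7 ^ k * 14) = 7 * (4 * 7 ^ k) := by ring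
      rw [h13]
      exact h12
    exact pow_eq_of_modEq u1' h9
  have h9 : (s * t) ^ 7 ∈ centralizer (R : Set G) := by
    rw [h8]
    exact pow_mem hk' _
  have h10 := mem_centralizer_iff.1 h9 b hbR
  apply u2
  apply hf
  rw [map_mul, map_mul, map_pow, map_mul]
  exact h10.symm

open Cfsg.Agent.MonsterX Cfsg.Agent.MonsterX.HeM Cfsg.Agent.MonsterX.HeM.Main Cfsg.Agent.MonsterX.WordSub
  Cfsg.Agent.MonsterX.WordRels Cfsg.Agent.MonsterX.WordsCodeM Cfsg.Agent.MonsterX.HeM.Words in
/-- the Held group is a subgroup of the Monster -/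
theorem exists_he : ∃ f : Spor.He →* InstData.M.G, Function.Injective f := by
  have hs : Cfsg.IsHe Spor.He := Cfsg.Agent.S1695.result
  have P := InstanceFinal.pack
  let f' : Cfsg.Spor.He.Gen → InstData.M.G := fun a => ⟨Abs.gens A0 B0 C0 D0 E0 F0 G0 a, gens_mem P a⟩
  obtain ⟨K, ⟨e⟩, -⟩ := exists_subgroup Cfsg.Spor.He.edges Cfsg.Spor.He.extra hs.1 f' (by
    rintro r (hr | hr)
    · exact cox_lift _ f' (fun x _ y _ => Subtype.ext ((rels P).cox x y)) r hr
    · exact lift_extra he_extra f' (fun r hr => ev_sub ((rels P).ev_he r hr)) r hr)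
    ⟨.e, fun h1 => e_ne (congrArg Subtype.val h1)⟩
  exact ⟨K.subtype.comp e.toMonoidHom, K.subtype_injective.comp e.injective⟩

/-- [EXO-SP2] the Monster -/
theorem row_M {p n : ℕ} {G : Type u} [Group G] (h : Pearly p n G) (hX : Spor.IsoM G) : False := by
  have h1 := seven_of_M h hX
  subst h1
  obtain ⟨e⟩ := hX
  obtain ⟨e'⟩ := MonsterP.Equiv.equiv
  obtain ⟨f, hf⟩ := exists_he
  have hfin : Finite MonsterX.InstData.M.G := by
    apply Nat.finite_of_card_ne_zero
    rw [MonsterP.EquivOf.isM_model.2]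
    norm_num
  exact false_of (h.congr (e.trans e')) f hf

end Cfsg.Agent.H978.Exo.Seven
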