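import Cfsg.Agent.H789.Exo.Defs
import Mathlib.GroupTheory.Sylow
import Mathlib.GroupTheory.SpecificGroups.Alternating

/-!
# Double inversions: lifting through `p'`-kernels (helper978, for S5268)

* `DoubleInv.lift` : `π : L → M` surjective with kernel of order prime to `p`, `DoubleInv p M` implies `DoubleInv p L`;
* `dinv_alt` : alternating groups of degree 8, 9, 10, 11, 12;
* `Pearly.mem_of_card` : the possible primes.
-/

set_option autoImplicit false

namespace Cfsg.Agent.H978.Exo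

open Cfsg Cfsg.Agent.H789.Exo Subgroup

universe u v w

/-- lifting when the `p`-subgroup is normal -/
theorem lift_normal {p : ℕ} [hp : Fact p.Prime] {L : Type u} {M : Type v} [Group L] [Group M] [Finite L] (π : L →* M)
    (hπ : Function.Surjective π) (hk : ¬ p ∣ Nat.card π.ker) {x y s t : M} {A : Subgroup M} [hA : A.Normal]
    (hAp : IsPGroup p A) (hAc : ∀ a ∈ A, ∀ b ∈ A, a * b = b * a) (hxA : x ∈ A) (hyA : y ∈ A)
    (hx : x ≠ 1) (hy : y ≠ 1) (h1 : s * x * s⁻¹ = x⁻¹) (h2 : s * y = y * s) (h3 : t * x = x * t)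
    (h4 : t * y * t⁻¹ = y⁻¹) : DoubleInv p L := by
  set E : Subgroup L := A.comap π with hE
  have hEn : E.Normal := hA.comap π
  obtain ⟨P⟩ : Nonempty (Sylow p E) := inferInstance
  set Q : Subgroup L := (P : Subgroup E).map E.subtype with hQ
  have hQE : Q ≤ E := map_subtype_le _
  have hQp : IsPGroup p Q := P.isPGroup'.map _
  -- injectivity on `Q`
  have hinj : ∀ a ∈ Q, π a = 1 → a = 1 := by
    intro a ha ha1
    by_contra hne
    have h5 : a ∈ Q ⊓ π.ker := ⟨ha, ha1⟩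
    have h6 : IsPGroup p ↥(Q ⊓ π.ker) := hQp.to_le inf_le_left
    have h7 : Nat.card ↥(Q ⊓ π.ker) ∣ Nat.card π.ker := card_dvd_of_le inf_le_right
    obtain ⟨n, hn⟩ := IsPGroup.iff_card.1 h6
    rcases Nat.eq_zero_or_pos n with rfl | hn0
    · rw [pow_zero] at hn
      have h8 : Q ⊓ π.ker = ⊥ := (Subgroup.card_eq_one).1 hn
      rw [h8, mem_bot] at h5
      exact hne h5
    · exact hk ((dvd_pow_self p hn0.ne').trans (hn ▸ h7))
  have hinj2 : ∀ a ∈ Q, ∀ b ∈ Q, π a = π b → a = b := by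
    intro a ha b hb hab
    have h5 := hinj (a * b⁻¹) (Q.mul_mem ha (Q.inv_mem hb)) (by rw [map_mul, map_inv, hab, mul_inv_cancel])
    exact mul_inv_eq_one.1 h5
  -- surjectivity of `Q → A`
  have hsurj : ∀ a ∈ A, ∃ q ∈ Q, π q = a := by
    let f : E →* A := (π.comp E.subtype).codRestrict A fun e => e.2
    have hf : Function.Surjective f := by
      rintro ⟨a, ha⟩
      obtain ⟨l, rfl⟩ := hπ a
      exact ⟨⟨l, ha⟩, rfl⟩
    have h5 : (P.mapSurjective hf : Subgroup A) = ⊤ :=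
      ((P.mapSurjective hf).3 (hAp.to_subgroup ⊤) le_top).symm
    intro a ha
    have h6 : (⟨a, ha⟩ : A) ∈ (P : Subgroup E).map f := by
      rw [← Sylow.coe_mapSurjective hf, h5]
      exact mem_top _
    obtain ⟨q, hq, hqa⟩ := h6
    exact ⟨q, ⟨q, hq, rfl⟩, congrArg Subtype.val hqa⟩
  have hfr := Sylow.normalizer_sup_eq_top P
  have hlift : ∀ g : M, ∃ n : L, (∀ q ∈ Q, n * q * n⁻¹ ∈ Q) ∧ ∀ c ∈ A, π n * c * (π n)⁻¹ = g * c * g⁻¹ := by
    intro g
    obtain ⟨l, rfl⟩ := hπ g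
    have hl : l ∈ normalizer ((P : Subgroup E).map E.subtype : Set L) ⊔ E := by
      rw [hfr]
      exact mem_top l
    rw [mem_sup_of_normal_right] at hl
    obtain ⟨n, hn, e, he, rfl⟩ := hl
    refine ⟨n, fun q hq => (mem_normalizer_iff.1 hn q).1 hq, fun c hc => ?_⟩
    have h5 : π e ∈ A := he
    rw [map_mul, mul_inv_rev]
    have h6 : π e * c * (π e)⁻¹ = c := by rw [hAc _ h5 _ hc, mul_inv_cancel_right]
    calc π n * c * (π n)⁻¹ = π n * (π e * c * (π e)⁻¹) * (π n)⁻¹ := by rw [h6]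
      _ = _ := by group
  obtain ⟨x', hx', rfl⟩ := hsurj x hxA
  obtain ⟨y', hy', rfl⟩ := hsurj y hyA
  obtain ⟨s', hs1, hs2⟩ := hlift s
  obtain ⟨t', ht1, ht2⟩ := hlift t
  have hpow : ∀ q ∈ Q, ∃ k : ℕ, q ^ p ^ k = 1 := by
    intro q hq
    obtain ⟨k, hk⟩ := hQp ⟨q, hq⟩
    exact ⟨k, congrArg Subtype.val hk⟩
  refine ⟨x', y', s', t', fun h => hx (by rw [h, map_one]), fun h => hy (by rw [h, map_one]), hpow _ hx', hpow _ hy',
    ?_, ?_, ?_, ?_, ?_⟩
  · exact hinj2 _ (Q.mul_mem hx' hy') _ (Q.mul_mem hy' hx') (by rw [map_mul, map_mul, hAc _ hxA _ hyA])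
  · refine hinj2 _ (hs1 _ hx') _ (Q.inv_mem hx') ?_
    rw [map_mul, map_mul, map_inv, hs2 _ hxA, h1, map_inv]
  · have h5 : s' * y' * s'⁻¹ = y' := by
      refine hinj2 _ (hs1 _ hy') _ hy' ?_
      rw [map_mul, map_mul, map_inv, hs2 _ hyA, h2, mul_inv_cancel_right]
    rw [mul_inv_eq_iff_eq_mul] at h5
    exact h5
  · have h5 : t' * x' * t'⁻¹ = x' := by
      refine hinj2 _ (ht1 _ hx') _ hx' ?_
      rw [map_mul, map_mul, map_inv, ht2 _ hxA, h3, mul_inv_cancel_right]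
    rw [mul_inv_eq_iff_eq_mul] at h5
    exact h5
  · refine hinj2 _ (ht1 _ hy') _ (Q.inv_mem hy') ?_
    rw [map_mul, map_mul, map_inv, ht2 _ hyA, h4, map_inv]

/-- **lifting a double inversion through a kernel of order prime to `p`** -/
theorem _root_.Cfsg.Agent.H789.Exo.DoubleInv.lift {p : ℕ} [hp : Fact p.Prime] {L : Type u} {M : Type v} [Group L]
    [Group M] [Finite L] (h : DoubleInv p M) (π : L →* M) (hπ : Function.Surjective π)
    (hk : ¬ p ∣ Nat.card π.ker) : DoubleInv p L := by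
  obtain ⟨x, y, s, t, hx, hy, ⟨k, hxk⟩, ⟨l, hyl⟩, hxy, h1, h2, h3, h4⟩ := h
  -- `A = ⟨x, y⟩`, `N = N(A)`
  set A : Subgroup M := closure {x, y} with hA
  have hxA : x ∈ A := subset_closure (by simp)
  have hyA : y ∈ A := subset_closure (by simp)
  have hAc : ∀ a ∈ A, ∀ b ∈ A, a * b = b * a := by
    have h5 : ∀ a ∈ A, a * x = x * a ∧ a * y = y * a := by
      intro a ha
      have h6 : A ≤ centralizer {x, y} := by
        rw [hA, closure_le]
        rintro z (rfl | hz)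
        · rw [SetLike.mem_coe, mem_centralizer_iff]
          rintro w (rfl | hw)
          · rfl
          · rw [Set.mem_singleton_iff] at hw
            rw [hw, hxy]
        · rw [Set.mem_singleton_iff] at hz
          rw [SetLike.mem_coe, mem_centralizer_iff, hz]
          rintro w (rfl | hw)
          · exact hxy
          · rw [Set.mem_singleton_iff] at hw
            rw [hw]
      exact ⟨(mem_centralizer_iff.1 (h6 ha) x (by simp)).symm, (mem_centralizer_iff.1 (h6 ha) y (by simp)).symm⟩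
    intro a ha b hb
    have h6 : A ≤ centralizer {a} := by
      rw [hA, closure_le]
      rintro z (rfl | hz)
      · exact mem_centralizer_singleton_iff.2 (h5 a ha).1.symm
      · rw [Set.mem_singleton_iff] at hz
        rw [hz]
        exact mem_centralizer_singleton_iff.2 (h5 a ha).2.symm
    exact (mem_centralizer_singleton_iff.1 (h6 hb)).symm
  have hAp : IsPGroup p A := by
    rintro ⟨a, ha⟩
    have h5 : ∀ b ∈ A, ∃ m : ℕ, b ^ p ^ m = 1 := by
      intro b hb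
      refine closure_induction (p := fun b _ => ∃ m : ℕ, b ^ p ^ m = 1) ?_ ⟨0, one_pow _⟩ ?_ ?_ hb
      · rintro z (rfl | hz)
        · exact ⟨k, hxk⟩
        · rw [Set.mem_singleton_iff] at hz
          exact ⟨l, hz ▸ hyl⟩
      · rintro c d hc hd ⟨m, hm⟩ ⟨n, hn⟩
        refine ⟨m + n, ?_⟩
        rw [(show Commute c d from hAc c hc d hd).mul_pow, pow_add, pow_mul, hm, one_pow, one_mul, mul_comm, pow_mul,
          hn, one_pow]
      · rintro c _ ⟨m, hm⟩
        exact ⟨m, by rw [inv_pow, hm, inv_one]⟩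
    obtain ⟨m, hm⟩ := h5 a ha
    exact ⟨m, Subtype.ext hm⟩
  -- everything normalizes `A`
  have hnorm : ∀ g : M, g * x * g⁻¹ ∈ A → g * y * g⁻¹ ∈ A → (g⁻¹ * x * g ∈ A) → (g⁻¹ * y * g ∈ A) →
      g ∈ normalizer (A : Set M) := by
    have h5 : ∀ g : M, g * x * g⁻¹ ∈ A → g * y * g⁻¹ ∈ A → ∀ a ∈ A, g * a * g⁻¹ ∈ A := by
      intro g hg1 hg2 a ha
      have h6 : A ≤ A.comap (MulAut.conj g).toMonoidHom := by
        conv_lhs => rw [hA]
        rw [closure_le]
        rintro z (rfl | hz)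
        · exact hg1
        · rw [Set.mem_singleton_iff] at hz
          rw [hz]
          exact hg2
      exact h6 ha
    intro g hg1 hg2 hg3 hg4
    rw [mem_normalizer_iff]
    intro a
    refine ⟨h5 g hg1 hg2 a, fun h6 => ?_⟩
    have h7 := h5 g⁻¹ (by rwa [inv_inv]) (by rwa [inv_inv]) _ h6
    have h8 : g⁻¹ * (g * a * g⁻¹) * g⁻¹⁻¹ = a := by group
    rwa [h8] at h7
  set N : Subgroup M := normalizer (A : Set M) with hN
  have hAN : A ≤ N := le_normalizer
  have hsN : s ∈ N := by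
    have h5 : s⁻¹ * x * s = x⁻¹ := by
      have : x = s⁻¹ * x⁻¹ * s := by rw [← h1]; group
      calc s⁻¹ * x * s = (s⁻¹ * x⁻¹ * s)⁻¹ := by group
        _ = x⁻¹ := by rw [← this]
    have h6 : s⁻¹ * y * s = y := by rw [mul_assoc, ← h2]; group
    refine hnorm s ?_ ?_ ?_ ?_
    · rw [h1]; exact A.inv_mem hxA
    · rw [h2, mul_inv_cancel_right]; exact hyA
    · rw [h5]; exact A.inv_mem hxA
    · rw [h6]; exact hyA
  have htN : t ∈ N := by
    have h5 : t⁻¹ * y * t = y⁻¹ := by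
      have : y = t⁻¹ * y⁻¹ * t := by rw [← h4]; group
      calc t⁻¹ * y * t = (t⁻¹ * y⁻¹ * t)⁻¹ := by group
        _ = y⁻¹ := by rw [← this]
    have h6 : t⁻¹ * x * t = x := by rw [mul_assoc, ← h3]; group
    refine hnorm t ?_ ?_ ?_ ?_
    · rw [h3, mul_inv_cancel_right]; exact hxA
    · rw [h4]; exact A.inv_mem hyA
    · rw [h6]; exact hxA
    · rw [h5]; exact A.inv_mem hyA
  -- restrict to the normalizer
  let ρ : ↥(N.comap π) →* ↥N := (π.comp (N.comap π).subtype).codRestrict N fun e => e.2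
  have hρ : Function.Surjective ρ := by
    rintro ⟨a, ha⟩
    obtain ⟨l, rfl⟩ := hπ a
    exact ⟨⟨l, ha⟩, rfl⟩
  have hker : ¬ p ∣ Nat.card ρ.ker := by
    intro h5
    apply hk
    refine h5.trans ?_
    refine Subgroup.card_dvd_of_injective
      (((N.comap π).subtype.comp ρ.ker.subtype).codRestrict π.ker fun e => ?_) ?_
    · have h6 : ρ (e : ↥(N.comap π)) = 1 := e.2
      exact congrArg Subtype.val h6
    · intro a b hab
      have h6 := congrArg Subtype.val hab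
      exact Subtype.ext (Subtype.ext h6)
  have hAn : (A.subgroupOf N).Normal := normal_in_normalizer
  have h5 : DoubleInv p ↥(N.comap π) := by
    refine lift_normal ρ hρ hker (A := A.subgroupOf N) (x := ⟨x, hAN hxA⟩) (y := ⟨y, hAN hyA⟩) (s := ⟨s, hsN⟩)
      (t := ⟨t, htN⟩) ?_ ?_ hxA hyA ?_ ?_ ?_ ?_ ?_ ?_
    · rintro ⟨⟨a, haN⟩, ha⟩
      obtain ⟨m, hm⟩ := hAp ⟨a, ha⟩
      have h6 : a ^ p ^ m = 1 := congrArg Subtype.val hm
      exact ⟨m, Subtype.ext (Subtype.ext h6)⟩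
    · intro a ha b hb
      exact Subtype.ext (hAc a ha b hb)
    · intro h6; exact hx (congrArg Subtype.val h6)
    · intro h6; exact hy (congrArg Subtype.val h6)
    · exact Subtype.ext h1
    · exact Subtype.ext h2
    · exact Subtype.ext h3
    · exact Subtype.ext h4
  exact h5.map (N.comap π).subtype fun g _ hg => Subtype.ext hg

/-- embedding -/
theorem _root_.Cfsg.Agent.H789.Exo.DoubleInv.of_injective {p : ℕ} {L : Type u} {M : Type v} [Group L]
    [Group M] (h : DoubleInv p L) (f : L →* M) (hf : Function.Injective f) : DoubleInv p M :=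
  h.map f fun g _ hg => hf (by rw [hg, map_one])

/-- a surjection whose kernel has order prime to `p` -/
theorem _root_.Cfsg.Agent.H789.Exo.DoubleInv.of_ker {p : ℕ} [hp : Fact p.Prime] {L : Type u} {M : Type v} [Group L]
    [Group M] (h : DoubleInv p L) (f : L →* M) (hf : ¬ p ∣ Nat.card f.ker) : DoubleInv p M := by
  refine h.map f fun g hg h1 => ?_
  obtain ⟨k, hk⟩ := hg
  by_contra hne
  have h2 : orderOf g ∣ p ^ k := orderOf_dvd_of_pow_eq_one hk
  obtain ⟨m, _, hm⟩ := (Nat.dvd_prime_pow hp.out).1 h2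
  have h3 : orderOf g ∣ Nat.card f.ker := Subgroup.orderOf_dvd_natCard f.ker h1
  rcases Nat.eq_zero_or_pos m with rfl | hm0
  · rw [pow_zero, orderOf_eq_one_iff] at hm
    exact hne hm
  · exact hf ((dvd_pow_self p hm0.ne').trans (hm ▸ h3))

/-! ### alternating groups -/

theorem dinv_alt3 (n : ℕ) (hn : 8 ≤ n) (h : n ≤ 12) : DoubleInv 3 (alternatingGroup (Fin n)) := by
  interval_cases n
  all_goals
    refine ⟨⟨Equiv.swap 0 1 * Equiv.swap 1 2, Equiv.Perm.mem_alternatingGroup.2 (by decide)⟩, ⟨Equiv.swap 3 4 * Equiv.swap 4 5, Equiv.Perm.mem_alternatingGroup.2 (by decide)⟩,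
      ⟨Equiv.swap 0 2 * Equiv.swap 6 7, Equiv.Perm.mem_alternatingGroup.2 (by decide)⟩, ⟨Equiv.swap 3 5 * Equiv.swap 6 7, Equiv.Perm.mem_alternatingGroup.2 (by decide)⟩, ?_, ?_, ⟨1, ?_⟩,
      ⟨1, ?_⟩, ?_, ?_, ?_, ?_, ?_⟩ <;> decide

theorem dinv_alt5 (n : ℕ) (hn : 10 ≤ n) (h : n ≤ 12) : DoubleInv 5 (alternatingGroup (Fin n)) := by
  interval_cases n
  all_goals
    refine ⟨⟨Equiv.swap 0 1 * Equiv.swap 1 2 * Equiv.swap 2 3 * Equiv.swap 3 4, Equiv.Perm.mem_alternatingGroup.2 (by decide)⟩,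
      ⟨Equiv.swap 5 6 * Equiv.swap 6 7 * Equiv.swap 7 8 * Equiv.swap 8 9, Equiv.Perm.mem_alternatingGroup.2 (by decide)⟩,
      ⟨Equiv.swap 0 4 * Equiv.swap 1 3, Equiv.Perm.mem_alternatingGroup.2 (by decide)⟩, ⟨Equiv.swap 5 9 * Equiv.swap 6 8, Equiv.Perm.mem_alternatingGroup.2 (by decide)⟩, ?_, ?_, ⟨1, ?_⟩,
      ⟨1, ?_⟩, ?_, ?_, ?_, ?_, ?_⟩ <;> decide

/-! ### primes -/

theorem eq_of_dvd_prod {p : ℕ} (hp : p.Prime) (l : List (ℕ × ℕ)) (hl : ∀ a ∈ l, a.1.Prime)
    (h : p ∣ (l.map fun a => a.1 ^ a.2).prod) : ∃ a ∈ l, p = a.1 := by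
  induction l with
  | nil =>
    rw [List.map_nil, List.prod_nil, Nat.dvd_one] at h
    exact absurd h hp.one_lt.ne'
  | cons a l ih =>
    rw [List.map_cons, List.prod_cons, hp.dvd_mul] at h
    rcases h with h | h
    · exact ⟨a, List.mem_cons_self, (Nat.prime_dvd_prime_iff_eq hp (hl a List.mem_cons_self)).1 (hp.dvd_of_dvd_pow h)⟩
    · obtain ⟨b, hb, h2⟩ := ih (fun a ha => hl a (List.mem_cons_of_mem _ ha)) h
      exact ⟨b, List.mem_cons_of_mem _ hb, h2⟩

/-- `p ^ 5` divides the order -/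
theorem _root_.Cfsg.Agent.H789.Exo.Pearly.pow_dvd {p n : ℕ} {G : Type u} [Group G] (h : Pearly p n G) :
    p ^ 5 ∣ Nat.card G := by
  have h1 : p ^ (Nat.card G).factorization p ∣ Nat.card G := Nat.ordProj_dvd _ _
  rw [h.val] at h1
  exact (pow_dvd_pow p h.five).trans h1

end Cfsg.Agent.H978.Exo
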